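import Cfsg.Agent.H852.Wf.Gen
import Cfsg.Agent.H177.AAMcL

/-!
# S3826, `p = 3`: `McL` (helper852), `U₄(3) < McL` has index 275
-/

set_option autoImplicit false

namespace Cfsg.Agent.H852.Wf

open Subgroup Cfsg Cfsg.Agent.H533.Wf

universe v

open Cfsg.Agent.H177.AAMcL in
theorem exists_u43 : ∃ (X : Type) (_ : Group X) (f : X →* Spor.McL), Finite X ∧ IsSimpleGroup X ∧
    Nat.card X = 3265920 ∧ Function.Injective f := by
  obtain ⟨F, _, _, hF⟩ := exists_field9
  have hn := (Cfsg.Agent.S1580.result Spor.leechV (-Spor.leechU) hV pair).1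
  obtain ⟨x, hx⟩ := Set.nonempty_of_ncard_ne_zero (by rw [hn]; norm_num)
  obtain ⟨e⟩ := Cfsg.Agent.S1582.result Spor.leechV (-Spor.leechU) x hV pair hx F hF
  set W := MulAction.stabilizer Co0 Spor.leechV ⊓ MulAction.stabilizer Co0 (-Spor.leechU) ⊓ MulAction.stabilizer Co0 x with hW
  have hmem : ∀ g : W, ((g : Co0) : Equiv.Perm leechLattice) ∈ Spor.McL := by
    intro g
    have h1 : (g : Co0) • Spor.leechV = Spor.leechV := g.2.1.1
    have h2 : (g : Co0) • (-Spor.leechU) = -Spor.leechU := g.2.1.2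
    rw [Cfsg.Agent.SporadicStructure.Co0Base.co0_smul_neg, neg_inj] at h2
    exact ⟨⟨(g : Co0).2, h1⟩, h2⟩
  let f : W →* Spor.McL := (Co0.subtype.comp W.subtype).codRestrict Spor.McL hmem
  have hf : Function.Injective f := by
    intro a b h
    have h1 := congrArg Subtype.val h
    exact Subtype.ext (Subtype.ext h1)
  have hcard := card_psu9 hF
  have hfin : Finite (PSU 4 F 3) := Nat.finite_of_card_ne_zero (by rw [hcard]; norm_num)
  have hs : IsSimpleGroup (PSU 4 F 3) := S0283.result (by rw [hF]; norm_num) 4 (by norm_num) (by norm_num)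
  refine ⟨PSU 4 F 3, inferInstance, f.comp e.symm.toMonoidHom, hfin, hs, hcard, ?_⟩
  rw [MonoidHom.coe_comp]
  exact hf.comp e.symm.injective

theorem mcl (K : Type v) [Group K] [Finite K] [IsSimpleGroup K] (h : Spor.IsoMcL K) : ARow 3 K := by
  have D := Cfsg.Agent.H177.AAMcL.dat_mcl h
  obtain ⟨hfin, hs, hcard, ⟨L⟩⟩ := Cfsg.Agent.TypeM.FactsMcL.facts h
  obtain ⟨X, _, f, hX, hXs, hc, hf⟩ := exists_u43
  obtain ⟨e⟩ := h
  refine arow_of_hom ?_ (X := X) (by rw [hc]; norm_num) (e.symm.toMonoidHom.comp f) ?_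
    (by rw [hc, D.card]; norm_num) (by rw [hc, D.card]; norm_num)
  · intro α hα
    obtain ⟨g, hg⟩ := Cfsg.Agent.UGT.End.McLOuter.inner_of_odd L hcard α hα
    exact ⟨g, hg.symm⟩
  · rw [MonoidHom.coe_comp]
    exact e.symm.injective.comp hf

end Cfsg.Agent.H852.Wf
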