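import Cfsg.Agent.H852.Wf.Gen
import Cfsg.Agent.H561.AAFi22

/-!
# S3826, `p = 3`: `Fi22` (helper852), `PΩ₇(3) < Fi22` has index 14080
-/

set_option autoImplicit false

namespace Cfsg.Agent.H852.Wf

open Subgroup Cfsg Cfsg.Agent.H533.Wf

universe v

open Cfsg.Agent.H561.AAFi22 in
theorem fi22 (K : Type v) [Group K] [Finite K] [IsSimpleGroup K] (h : Spor.IsoFi22 K) : ARow 3 K := by
  have hOI := Cfsg.Agent.H256.OddInner.fi22 h
  obtain ⟨e⟩ := h
  have hcK : Nat.card K = 64561751654400 := by rw [Nat.card_congr e.toEquiv, card_fi22]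
  have hs := Cfsg.Agent.Fischer.Y322Iso.simple
  have hc := Cfsg.Agent.Fischer.Y322Iso.card_POmega
  obtain ⟨e2⟩ := Cfsg.Agent.S1686.result
  have : Finite (POmega (ZMod 3) (quadFormOdd 3 (ZMod 3))) := Nat.finite_of_card_ne_zero (by rw [hc]; norm_num)
  refine arow_of_hom hOI (X := POmega (ZMod 3) (quadFormOdd 3 (ZMod 3))) (by rw [hc]; norm_num)
    (e.symm.toMonoidHom.comp ((Subgroup.subtype _).comp e2.symm.toMonoidHom)) ?_
    (by rw [hc, hcK]; norm_num) (by rw [hc, hcK]; norm_num)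
  rw [MonoidHom.coe_comp, MonoidHom.coe_comp]
  exact e.symm.injective.comp ((Subgroup.subtype_injective _).comp e2.symm.injective)

end Cfsg.Agent.H852.Wf
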