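import Cfsg.Agent.H852.Wf.Gen
import Cfsg.Agent.H561.AAFi23

/-!
# S3826, `p = 3`: `Fi23` (helper852), `PΩ₈⁺(3):S₃ < Fi23` has index 137632
-/

set_option autoImplicit false

namespace Cfsg.Agent.H852.Wf

open Subgroup Cfsg Cfsg.Agent.H533.Wf

universe u v

/-- a normal simple non-abelian subgroup whose centralizer contains no element of order 3 -/
def AS (X : Type*) [Group X] : Prop :=
  ∃ L : Subgroup X, L.Normal ∧ IsSimpleGroup L ∧ ¬ IsMulCommutative L ∧
    ∀ x : X, orderOf x = 3 → x ∉ centralizer (L : Set X)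

theorem AS.congr {X : Type u} {Y : Type v} [Group X] [Group Y] (e : X ≃* Y) (h : AS X) : AS Y := by
  obtain ⟨L, hn, hs, hc, hx⟩ := h
  have eL : L ≃* L.map e.toMonoidHom := L.equivMapOfInjective _ e.injective
  refine ⟨L.map e.toMonoidHom, hn.map _ e.surjective, (MulEquiv.isSimpleGroup_congr eL).1 hs, ?_, ?_⟩
  · intro hm
    apply hc
    refine ⟨⟨fun a b => eL.injective ?_⟩⟩
    rw [map_mul, map_mul]
    exact hm.is_comm.comm _ _
  · intro y hy hyc
    refine hx (e.symm y) ?_ ?_
    · rw [← hy]
      exact orderOf_injective e.symm.toMonoidHom e.symm.injective y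
    · rw [mem_centralizer_iff] at hyc ⊢
      intro l hl
      apply e.injective
      rw [map_mul, map_mul, e.apply_symm_apply]
      exact hyc (e l) ⟨l, hl, rfl⟩

open Cfsg.Agent.H459.Rad in
theorem AS.of_rad {X : Type*} [Group X] [Finite X] (hr : solvableRadical X = ⊥) {N : Subgroup X} [hN : N.Normal]
    (hs : IsSimpleGroup N) (hnc : ¬ IsMulCommutative N) (hq : Group.IsSolvable (X ⧸ N)) : AS X := by
  refine ⟨N, hN, hs, hnc, ?_⟩
  set C : Subgroup X := centralizer (N : Set X) with hC
  have hCn : C.Normal := by rw [hC]; infer_instance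
  have hz : center N = ⊥ := by
    rcases (inferInstance : (center N).Normal).eq_bot_or_eq_top with h | h
    · exact h
    · exfalso
      apply hnc
      refine ⟨⟨fun a b => ?_⟩⟩
      have h3 : a ∈ center N := by rw [h]; exact mem_top a
      exact (mem_center_iff.1 h3 b).symm
  have hinj : Function.Injective ((QuotientGroup.mk' N).comp C.subtype) := by
    rw [injective_iff_map_eq_one]
    rintro ⟨x, hx⟩ h1
    have h2 : x ∈ N := (QuotientGroup.eq_one_iff x).1 h1
    have h3 : (⟨x, h2⟩ : N) ∈ center N := by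
      rw [mem_center_iff]
      intro y
      apply Subtype.ext
      exact mem_centralizer_iff.1 hx y y.2
    rw [hz, mem_bot] at h3
    exact Subtype.ext (congrArg (Subtype.val : N → X) h3)
  have hCs : Group.IsSolvable C := Group.isSolvable_of_isSolvable_injective hinj
  have hle : C ≤ solvableRadical X := by
    exact Cfsg.Agent.H459.Rad.le_rad hCn hCs
  intro x hx hxc
  have := hle hxc
  rw [hr, mem_bot] at this
  rw [this, orderOf_one] at hx
  omega

theorem isSolvable_of_card_three {Q : Type v} [Group Q] (h : Nat.card Q = 3) : Group.IsSolvable Q := by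
  have : Fact (Nat.Prime 3) := ⟨Nat.prime_three⟩
  have := isCyclic_of_prime_card h
  exact Group.isSolvable_of_comm fun a b => this.commGroup.mul_comm a b

theorem isSolvable_perm_three : Group.IsSolvable (Equiv.Perm (Fin 3)) := by
  have h1 : Group.IsSolvable (alternatingGroup (Fin 3)) := by
    apply isSolvable_of_card_three
    have h := two_mul_nat_card_alternatingGroup (α := Fin 3)
    rw [Nat.card_perm, Nat.card_eq_fintype_card (α := Fin 3), Fintype.card_fin, show Nat.factorial 3 = 6 from rfl] at h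
    omega
  have h2 : Group.IsSolvable ℤˣ := inferInstance
  exact Group.isSolvable_of_ker_le_range (alternatingGroup (Fin 3)).subtype Equiv.Perm.sign
    (by
      rw [range_subtype]
      exact le_of_eq rfl)

/-- the row -/
theorem arow_of_as {K : Type v} [Group K] [Finite K]
    (hout : ∀ a : MulAut K, Odd (orderOf a) → ∃ g : K, a = MulAut.conj g) {H : Subgroup K} (hH : H ≠ ⊤)
    (hidx : ¬ 3 ∣ H.index) (h : AS H) : ARow 3 K := by
  obtain ⟨L, hn, hs, hc, hx⟩ := h
  have hLH : L.map H.subtype ≤ H := map_subtype_le L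
  have eL : L ≃* L.map H.subtype := L.equivMapOfInjective _ H.subtype_injective
  refine arow_of_sub hout hH hidx hLH ?_ (QS.of_simple ((MulEquiv.isSimpleGroup_congr eL).1 hs) ?_) ?_
  · rw [← normal_subgroupOf_iff_le_normalizer hLH]
    have h1 : (L.map H.subtype).subgroupOf H = L := by
      rw [Subgroup.subgroupOf, comap_map_eq_self_of_injective H.subtype_injective]
    rw [h1]
    exact hn
  · intro hm
    apply hc
    refine ⟨⟨fun a b => eL.injective ?_⟩⟩
    rw [map_mul, map_mul]
    exact hm.is_comm.comm _ _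
  · intro x hxH hx3 hxc
    refine hx ⟨x, hxH⟩ (by rw [Subgroup.orderOf_mk]; exact hx3) ?_
    rw [mem_centralizer_iff] at hxc ⊢
    intro l hl
    exact Subtype.ext (hxc (l : K) ⟨l, hl, rfl⟩)

open Cfsg.Agent.H459.Rad Cfsg.Agent.H561.AATool Cfsg.Agent.H561.AAFi23
open Cfsg.Agent.Fischer480.Defs Cfsg.Agent.R08 Cfsg.Agent.R08.FiTwentyFour
open Cfsg.Agent.Fischer.Fi24Class (gen gen_sq)
open Cfsg.Agent.H830.Con24 Cfsg.Agent.H830.Type24 Cfsg.Agent.ThreeTransPolar.Basic
open Cfsg.Agent.H711.FiThreeRow

theorem as_com {d c : Spor.Fi24} (hd : d ∈ L) (hc : c ∈ L) (hdc : ¬ Commute d c) :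
    AS ↥(closure (Com L d c)) := by
  have := finite_Fi24
  obtain ⟨h1, h2, h3⟩ := com_facts hd hc hdc
  obtain ⟨N, hN, ⟨e⟩, ⟨f⟩⟩ := tri_com fgroup isT8 hd hc hdc
  set X := ↥(closure (Com L d c)) with hX
  -- the quotient by the trivial centre
  have q : (X ⧸ center X) ≃* X := (QuotientGroup.quotientMulEquivOfEq h2).trans QuotientGroup.quotientBot
  have hs := Cfsg.Agent.H830.TriMain.simple_pomega
  have hcard := Cfsg.Agent.H830.TriMain.card_pomega
  have : Finite (POmega (ZMod 3) (quadFormPlus 4 (ZMod 3))) := Nat.finite_of_card_ne_zero (by rw [hcard]; norm_num)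
  refine AS.congr q ?_
  have hr : solvableRadical (X ⧸ center X) = ⊥ := by
    rw [eq_bot_iff]
    intro x hx
    have h5 := map_rad_le (f := q.toMonoidHom) q.surjective hx
    rw [h3, mem_bot] at h5
    rw [mem_bot]
    exact q.injective (by rw [map_one]; exact h5)
  have hns : IsSimpleGroup N := (MulEquiv.isSimpleGroup_congr e).2 hs
  have hfN : Finite N := Finite.of_equiv _ e.symm.toEquiv
  refine AS.of_rad hr hns (not_comm_of_card ?_) ?_
  · rw [Nat.card_congr e.toEquiv, hcard]; norm_num
  · have hS : Group.IsSolvable (Equiv.Perm (Fin 3)) := isSolvable_perm_three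
    exact Group.isSolvable_of_isSolvable_injective (f := f.toMonoidHom) f.injective

/-- the subgroup `PΩ8+(3):S3` of `Fi23` -/
theorem exists_sub' : ∃ H : Subgroup Spor.Fi23, H.index = 137632 ∧ AS H := by
  have := finite_Fi24
  have := finite_fi23
  obtain ⟨c, hc, hdc⟩ := exists_pair
  obtain ⟨h1, h2, h3⟩ := com_facts (gen_mem_L .l) hc hdc
  have h4 := as_com (gen_mem_L .l) hc hdc
  rw [closure_com (gen_mem_L .l) hc hdc] at h1 h2 h3 h4
  set C := centralizer ({gen .l} : Set Spor.Fi24) with hC
  obtain ⟨f, hf, hk⟩ : ∃ f : ↥C →* Spor.Fi23, Function.Surjective f ∧ Nat.card f.ker = 2 := exists_equiv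
  have hle : centralizer ({c} : Set Spor.Fi24) ⊓ C ≤ C := inf_le_right
  let g : ↥(centralizer ({c} : Set Spor.Fi24) ⊓ C) →* Spor.Fi23 := f.comp (inclusion hle)
  have hg : Function.Injective g := by
    rw [← MonoidHom.ker_eq_bot_iff, eq_bot_iff, ← h2]
    intro x hx
    have hx' : inclusion hle x ∈ f.ker := hx
    have hcen : f.ker ≤ center ↥C := le_center_of_card_two hk
    rw [mem_center_iff]
    intro y
    apply Subtype.ext
    exact congrArg (Subtype.val : ↥C → Spor.Fi24) (mem_center_iff.1 (hcen hx') (inclusion hle y))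
  let e := MonoidHom.ofInjective hg
  refine ⟨g.range, ?_, h4.congr e⟩
  have h4 := g.range.card_mul_index
  rw [← Nat.card_congr e.toEquiv, h1, card_fi23] at h4
  omega

theorem fi23 (K : Type v) [Group K] [Finite K] [IsSimpleGroup K] (h : Spor.IsoFi23 K) : ARow 3 K := by
  have hOI := Cfsg.Agent.H256.OddInner.fi23 h
  obtain ⟨e⟩ := h
  obtain ⟨H, h1, h2⟩ := exists_sub'
  have hidx : (H.comap e.toMonoidHom).index = 137632 := by
    rw [H.index_comap_of_surjective (f := e.toMonoidHom) e.surjective, h1]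
  refine arow_of_as (H := H.comap e.toMonoidHom) hOI ?_ (by rw [hidx]; norm_num) ?_
  · intro h
    rw [h, index_top] at hidx
    norm_num at hidx
  · have e2 : ↥(H.comap e.toMonoidHom) ≃* H :=
      { toFun := fun x => ⟨e x.1, x.2⟩
        invFun := fun y => ⟨e.symm y.1, by
          show e (e.symm y.1) ∈ H
          rw [e.apply_symm_apply]; exact y.2⟩
        left_inv := fun x => Subtype.ext (e.symm_apply_apply _)
        right_inv := fun x => Subtype.ext (e.apply_symm_apply _)
        map_mul' := fun x y => Subtype.ext (map_mul e _ _) }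
    exact h2.congr e2.symm

end Cfsg.Agent.H852.Wf
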