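import Cfsg.Agent.H533.Wf.Inner

/-!
# S3826, `p = 3`: sporadic groups with a simple subgroup of index prime to 3 (helper852)
-/

set_option autoImplicit false

namespace Cfsg.Agent.H852.Wf

open Subgroup Cfsg Cfsg.Agent.H533.Wf

universe v w

variable {K : Type v} [Group K] [Finite K]

/-- a subgroup of index prime to 3 with a normal `QS` subgroup -/
theorem arow_of_sub (hout : ∀ a : MulAut K, Odd (orderOf a) → ∃ g : K, a = MulAut.conj g)
    {H L : Subgroup K} (hH : H ≠ ⊤) (hidx : ¬ 3 ∣ H.index) (hLH : L ≤ H)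
    (hHL : H ≤ normalizer (L : Set K)) (hL : QS L)
    (hcent : ∀ x ∈ H, orderOf x = 3 → x ∉ centralizer (L : Set K)) : ARow 3 K := by
  have : Fact (Nat.Prime 3) := ⟨Nat.prime_three⟩
  refine ARow.of_inner (fun a ha => ?_) (fun C D h => h.false_of_index hH hidx hLH hHL hL hcent)
  obtain ⟨g, hg⟩ := hout a (by rw [ha]; decide)
  exact ⟨g, hg.symm⟩

/-- a simple subgroup of index prime to 3 -/
theorem arow_of_simple (hout : ∀ a : MulAut K, Odd (orderOf a) → ∃ g : K, a = MulAut.conj g)
    {H : Subgroup K} (hs : IsSimpleGroup H) (hnc : ¬ IsMulCommutative H) (hH : H ≠ ⊤)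
    (hidx : ¬ 3 ∣ H.index) : ARow 3 K := by
  refine arow_of_sub hout hH hidx le_rfl le_normalizer (QS.of_simple hs hnc) ?_
  intro x hx hx3 hxc
  have h1 : (⟨x, hx⟩ : H) ∈ center H := by
    rw [mem_center_iff]
    intro y
    apply Subtype.ext
    exact mem_centralizer_iff.1 hxc y y.2
  have h2 : center H = ⊥ := by
    rcases (inferInstance : (center H).Normal).eq_bot_or_eq_top with h | h
    · exact h
    · exfalso
      apply hnc
      refine ⟨⟨fun a b => ?_⟩⟩
      have h3 : a ∈ center H := by rw [h]; exact mem_top a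
      exact (mem_center_iff.1 h3 b).symm
  rw [h2, mem_bot] at h1
  have h3 : x = 1 := congrArg Subtype.val h1
  rw [h3, orderOf_one] at hx3
  omega

theorem not_comm_of_card {X : Type w} [Group X] [Finite X] [IsSimpleGroup X]
    (h : ¬ (Nat.card X).Prime) : ¬ IsMulCommutative X := by
  intro hm
  let _ : CommGroup X := { (inferInstance : Group X) with mul_comm := hm.is_comm.comm }
  exact h IsSimpleGroup.prime_card

/-- an embedded simple group of index prime to 3 -/
theorem arow_of_hom (hout : ∀ a : MulAut K, Odd (orderOf a) → ∃ g : K, a = MulAut.conj g)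
    {X : Type w} [Group X] [Finite X] [IsSimpleGroup X] (hX : ¬ (Nat.card X).Prime) (f : X →* K)
    (hf : Function.Injective f) (hlt : Nat.card X < Nat.card K)
    (hi : ¬ 3 ∣ Nat.card K / Nat.card X) : ARow 3 K := by
  have e := MonoidHom.ofInjective hf
  have hc : Nat.card f.range = Nat.card X := (Nat.card_congr e.toEquiv).symm
  have hs' : IsSimpleGroup f.range := (MulEquiv.isSimpleGroup_congr e).1 inferInstance
  refine arow_of_simple hout hs' (not_comm_of_card (by rw [hc]; exact hX)) ?_ ?_
  · intro h1
    rw [h1, Subgroup.card_top] at hc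
    omega
  · have h := f.range.card_mul_index
    rw [hc] at h
    rw [← h, Nat.mul_div_cancel_left _ Nat.card_pos] at hi
    exact hi

end Cfsg.Agent.H852.Wf
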